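import Cfsg.Agent.Lib.KnownSimple.Leech.Big

/-!
# Fast evaluation of the image of a vector under a dense matrix

The rows of the matrix are encoded like the vectors of a table; a scalar product is then a digit of a product
of two large numbers.
-/

set_option autoImplicit false

namespace Cfsg.Agent.Lib.KnownSimple.Leech

open Cfsg.Agent.Lib.Compute Cfsg.Agent.Lib.KnownSimple.PE

/-- A scalar product of two vectors given by their codes. -/
noncomputable def gramRow (r c : ℕ) : ℕ :=
  Nat.sub (Nat.add (dig23 (Nat.mul (evalP r) (evalQ c))) 1048576) (Nat.mul 8 (Nat.add (evalT r) (evalT c)))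

theorem gramRow_eq (r c : ℕ) :
    (gramRow r c : ℤ) = ∑ k ∈ Finset.range 24, ((dgt r k : ℤ) - 8) * ((dgt c k : ℤ) - 8) + (1048576 - 1536) := by
  let tab : ℕ → ℕ := fun i => bcond (Nat.beq i 0) r c
  have h := gramF_eq (tab := tab) (tP := fun i => evalP (tab i)) (tQ := fun i => evalQ (tab i))
    (tT := fun i => evalT (tab i)) (i := 0) (j := 1) rfl rfl rfl rfl
  have e : gramF (fun i => evalP (tab i)) (fun i => evalQ (tab i)) (fun i => evalT (tab i)) 0 1 = gramRow r c := rfl
  rw [e] at h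
  rw [h]
  congr 1
  unfold dotZ
  rw [sumN_eq]
  refine Finset.sum_congr rfl fun k _ => ?_
  show vecZ tab 0 k * vecZ tab 1 k = _
  rw [vecZ_eq, vecZ_eq]
  rfl

/-- The check of an image under a matrix, from the codes of the rows. -/
noncomputable def fastP (rC : ℕ → ℕ) (c c' : ℕ) : Bool :=
  allBelow (fun j => Nat.beq (gramRow (rC j) c) (Nat.add (Nat.mul 8 (dgt c' j)) 1046976)) 24

/-- The check of the opposite of an image under a matrix, from the codes of the rows. -/
noncomputable def fastN (rC : ℕ → ℕ) (c c' : ℕ) : Bool :=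
  allBelow (fun j => Nat.beq (Nat.add (gramRow (rC j) c) (Nat.mul 8 (dgt c' j))) 1047104) 24

/-- The check of the codes of the rows. -/
noncomputable def rowsOK (S : List (List (ℕ × ℤ))) (rC : ℕ → ℕ) : Bool :=
  allBelow (fun j => allBelow (fun k => decide (dotS (rowOf S j) (dlt k) = vecZ rC j k)) 24) 24

theorem dotS_of_rows {S : List (List (ℕ × ℤ))} {rC : ℕ → ℕ} (hS : ∀ i, ∀ q ∈ rowOf S i, q.1 < 24)
    (hr : rowsOK S rC = true) {j : ℕ} (hj : j < 24) (tab : ℕ → ℕ) (i : ℕ) :
    (gramRow (rC j) (tab i) : ℤ) = dotS (rowOf S j) (vecZ tab i) + (1048576 - 1536) := by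
  rw [gramRow_eq, dotS_eq (hS j)]
  congr 1
  refine Finset.sum_congr rfl fun k hk => ?_
  have hk' := Finset.mem_range.1 hk
  have h1 : dotS (rowOf S j) (dlt k) = vecZ rC j k :=
    of_decide_eq_true ((allBelow_iff _ _).1 ((allBelow_iff _ _).1 hr j hj) k hk')
  rw [h1, vecZ_eq, vecZ_eq]

theorem fastP_spec {S : List (List (ℕ × ℤ))} {rC : ℕ → ℕ} (hS : ∀ i, ∀ q ∈ rowOf S i, q.1 < 24)
    (hr : rowsOK S rC = true) {tab : ℕ → ℕ} {i k : ℕ} (h : fastP rC (tab i) (tab k) = true) :
    allBelow (fun j => decide (dotS (rowOf S j) (vecZ tab i) = Int.mul 8 (vecZ tab k j))) 24 = true := by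
  rw [allBelow_iff]
  intro j hj
  have h1 := Nat.eq_of_beq_eq_true ((allBelow_iff _ _).1 h j hj)
  have h2 := dotS_of_rows hS hr hj tab i
  have h3 : gramRow (rC j) (tab i) = 8 * dgt (tab k) j + 1046976 := h1
  apply decide_eq_true
  show _ = 8 * vecZ tab k j
  rw [vecZ_eq]
  omega

theorem fastN_spec {S : List (List (ℕ × ℤ))} {rC : ℕ → ℕ} (hS : ∀ i, ∀ q ∈ rowOf S i, q.1 < 24)
    (hr : rowsOK S rC = true) {tab : ℕ → ℕ} {i k : ℕ} (h : fastN rC (tab i) (tab k) = true) :
    allBelow (fun j => decide (dotS (rowOf S j) (vecZ tab i) = Int.neg (Int.mul 8 (vecZ tab k j)))) 24 = true := by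
  rw [allBelow_iff]
  intro j hj
  have h1 := Nat.eq_of_beq_eq_true ((allBelow_iff _ _).1 h j hj)
  have h2 := dotS_of_rows hS hr hj tab i
  have h3 : gramRow (rC j) (tab i) + 8 * dgt (tab k) j = 1047104 := h1
  apply decide_eq_true
  show _ = - (8 * vecZ tab k j)
  rw [vecZ_eq]
  omega

end Cfsg.Agent.Lib.KnownSimple.Leech
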